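import Mathlib

/-!
# Universal openness over a Noetherian ring: reduction to finite algebras

`NilProp A B`: for every finite `A`-domain `D`, an element of `D ⊗ B` killed by a nonzero element of `D`
is nilpotent. The main result `NilProp.isNilpotent` extends this to all `A`-domains.
-/

universe u

namespace Groth.Agent.UnivOpen

open TensorProduct

/-- Torsion over finite domains is nilpotent. -/
def NilProp (A B : Type u) [CommRing A] [CommRing B] [Algebra A B] : Prop :=
  ∀ (D : Type u) [CommRing D] [IsDomain D] [Algebra A D] [Module.Finite A D] (s : D) (u : D ⊗[A] B),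
    s ≠ 0 → (s ⊗ₜ[A] (1 : B)) * u = 0 → IsNilpotent u

/-- In a Noetherian local domain with all nonzero primes containing a fixed `t ≠ 0`, there is only one
nonzero prime. -/
theorem eq_maximalIdeal_of_forall_mem {D : Type u} [CommRing D] [IsNoetherianRing D] [IsLocalRing D]
    [IsDomain D] {t : D} (ht : t ≠ 0) (h : ∀ R : Ideal D, R.IsPrime → R ≠ ⊥ → t ∈ R)
    {R : Ideal D} (hR : R.IsPrime) (hR0 : R ≠ ⊥) : R = IsLocalRing.maximalIdeal D := by
  by_contra hne
  set m := IsLocalRing.maximalIdeal D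
  let I := Ideal.span {t}
  obtain ⟨R0, hR0', hR0le⟩ := Ideal.exists_minimalPrimes_le (I := I) (J := R)
    ((Ideal.span_singleton_le_iff_mem _).mpr (h R hR hR0))
  have hm : m ∉ I.minimalPrimes := fun hm => by
    have h1 : m = R0 := le_antisymm (hm.2 hR0'.1 (IsLocalRing.le_maximalIdeal hR0'.1.1.ne_top))
      (IsLocalRing.le_maximalIdeal hR0'.1.1.ne_top)
    exact hne (le_antisymm (IsLocalRing.le_maximalIdeal hR.ne_top) (h1 ▸ hR0le))
  obtain ⟨x, hx, hxn⟩ : ∃ x ∈ m, ∀ P ∈ I.minimalPrimes, x ∉ P := by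
    by_contra hcon
    push Not at hcon
    have hsub : (m : Set D) ⊆ ⋃ P ∈ I.minimalPrimes, (P : Set D) := fun x hx =>
      Set.mem_iUnion₂.mpr (let ⟨P, hP, hxP⟩ := hcon x hx; ⟨P, hP, hxP⟩)
    obtain ⟨P, hP, hle⟩ := (Ideal.subset_union_prime_finite
      (Ideal.finite_minimalPrimes_of_isNoetherianRing D I) ⊥ ⊥ (f := fun P => P)
      (fun P hP _ _ => hP.1.1)).mp hsub
    exact hm (le_antisymm hle (IsLocalRing.le_maximalIdeal hP.1.1.ne_top) ▸ hP)
  have hx0 : x ≠ 0 := fun h0 => hxn R0 hR0' (h0 ▸ zero_mem _)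
  obtain ⟨T, hT, -⟩ := Ideal.exists_minimalPrimes_le (I := Ideal.span {x}) (J := m)
    ((Ideal.span_singleton_le_iff_mem _).mpr hx)
  haveI := hT.1.1
  have hxT : x ∈ T := hT.1.2 (Ideal.mem_span_singleton_self x)
  have hT0 : T ≠ ⊥ := fun h0 => hx0 (by rwa [h0, Ideal.mem_bot] at hxT)
  obtain ⟨T0, hT0', hT0le⟩ := Ideal.exists_minimalPrimes_le (I := I) (J := T)
    ((Ideal.span_singleton_le_iff_mem _).mpr (h T ‹_› hT0))
  haveI := hT0'.1.1
  have hlt : T0 < T := lt_of_le_of_ne hT0le fun heq => hxn T0 hT0' (heq ▸ hxT)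
  have hbot : (⊥ : Ideal D) < T0 := bot_lt_iff_ne_bot.mpr fun h0 => ht (by
    have := hT0'.1.2 (Ideal.mem_span_singleton_self t)
    rwa [h0, Ideal.mem_bot] at this)
  have h1 := Ideal.height_le_one_of_isPrincipal_of_mem_minimalPrimes (Ideal.span {x}) T hT
  have h2 : (⊥ : Ideal D).height < T0.height := Ideal.height_strict_mono_of_isPrime_of_isPrime hbot
  have h3 : T0.height < T.height := Ideal.height_strict_mono_of_isPrime_of_isPrime hlt
  have h4 : T0.height = 0 := by
    rcases ENat.lt_one_iff_eq_zero.mp (lt_of_lt_of_le h3 h1) with h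
    exact h
  rw [h4] at h2
  exact not_lt_zero h2

/-- In a Noetherian local domain, a prime avoiding `t ≠ 0` with only the maximal ideal above it. -/
theorem exists_prime_dim_one {D : Type u} [CommRing D] [IsNoetherianRing D] [IsLocalRing D]
    [IsDomain D] {t : D} (ht : t ≠ 0) :
    ∃ Q : Ideal D, Q.IsPrime ∧ t ∉ Q ∧ ∀ R : Ideal D, R.IsPrime → Q < R → R = IsLocalRing.maximalIdeal D := by
  obtain ⟨Q, ⟨hQ, htQ⟩, hmax⟩ := set_has_maximal_iff_noetherian.mpr (inferInstance : IsNoetherian D D)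
    {Q : Ideal D | Q.IsPrime ∧ t ∉ Q} ⟨⊥, Ideal.isPrime_bot, by simpa using ht⟩
  refine ⟨Q, hQ, htQ, fun R hR hQR => ?_⟩
  haveI := hQ
  haveI : IsLocalRing (D ⧸ Q) := IsLocalRing.of_surjective' _ Ideal.Quotient.mk_surjective
  have hker : ∀ {S : Ideal (D ⧸ Q)}, Q ≤ S.comap (Ideal.Quotient.mk Q) := fun {S} x hx => by
    rw [Ideal.mem_comap, Ideal.Quotient.eq_zero_iff_mem.mpr hx]; exact zero_mem _
  have key := eq_maximalIdeal_of_forall_mem (D := D ⧸ Q) (t := Ideal.Quotient.mk Q t)
    (fun h => htQ (Ideal.Quotient.eq_zero_iff_mem.mp h)) (fun S hS hS0 => by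
      by_contra hts
      refine hmax (S.comap (Ideal.Quotient.mk Q)) ⟨inferInstance, hts⟩ (lt_of_le_of_ne hker fun heq => hS0 ?_)
      rw [← Ideal.map_comap_of_surjective _ Ideal.Quotient.mk_surjective S, ← heq, Ideal.map_quotient_self])
    (R := R.map (Ideal.Quotient.mk Q))
    (Ideal.map_isPrime_of_surjective Ideal.Quotient.mk_surjective (by rw [Ideal.mk_ker]; exact hQR.le))
    (fun h0 => hQR.not_ge (by rwa [Ideal.map_eq_bot_iff_le_ker, Ideal.mk_ker] at h0))
  have h1 := congrArg (Ideal.comap (Ideal.Quotient.mk Q)) key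
  rw [Ideal.comap_map_of_surjective _ Ideal.Quotient.mk_surjective, ← RingHom.ker_eq_comap_bot,
    Ideal.mk_ker, sup_eq_left.mpr hQR.le] at h1
  rw [h1]
  exact IsLocalRing.eq_maximalIdeal (Ideal.comap_isMaximal_of_surjective _ Ideal.Quotient.mk_surjective)

/-- Specialise inside a fibre to a point which is closed in the fibre of an intermediate algebra. -/
theorem exists_closed_point {A C R : Type u} [CommRing A] [CommRing C] [CommRing R] [Algebra A C]
    [Algebra A R] [Algebra C R] [IsScalarTower A C R] [Algebra.FiniteType A R]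
    (P : Ideal R) [P.IsPrime] {u : R} (hu : u ∉ P) :
    ∃ M : Ideal R, M.IsPrime ∧ u ∉ M ∧ M.comap (algebraMap A R) = P.comap (algebraMap A R) ∧
      ∀ Q : Ideal C, Q.IsPrime → M.comap (algebraMap C R) ≤ Q →
        Q.comap (algebraMap A C) = P.comap (algebraMap A R) → Q = M.comap (algebraMap C R) := by
  set q0 := P.comap (algebraMap A R)
  let S1 := Localization.Away u
  let K := q0.ResidueField
  haveI hne : Nontrivial (q0.Fiber S1) := by
    have hd : Disjoint (Submonoid.powers u : Set R) P :=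
      Set.disjoint_left.mpr fun x hx hxP => by
        obtain ⟨n, rfl⟩ := hx
        exact hu (‹P.IsPrime›.mem_of_pow_mem n hxP)
    have hP1 := IsLocalization.isPrime_of_isPrime_disjoint (Submonoid.powers u) S1 P ‹_› hd
    have hc : (P.map (algebraMap R S1)).comap (algebraMap A S1) = q0 := by
      rw [IsScalarTower.algebraMap_eq A R S1, ← Ideal.comap_comap]
      exact congrArg _ (IsLocalization.under_map_of_isPrime_disjoint (Submonoid.powers u) S1 ‹_› hd)
    exact PrimeSpectrum.nonempty_iff_nontrivial.mp ⟨PrimeSpectrum.preimageOrderIsoFiber A S1 ⟨q0, inferInstance⟩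
      ⟨⟨_, hP1⟩, PrimeSpectrum.ext hc⟩⟩
  obtain ⟨N, hN⟩ := Ideal.exists_maximal (q0.Fiber S1)
  letI : Field (q0.Fiber S1 ⧸ N) := Ideal.Quotient.field N
  haveI : Module.Finite K (q0.Fiber S1 ⧸ N) := finite_of_finite_type_of_isJacobsonRing K _
  let g : q0.Fiber C →ₐ[K] q0.Fiber S1 ⧸ N :=
    (Ideal.Quotient.mkₐ K N).comp (Algebra.TensorProduct.map (AlgHom.id K K) (IsScalarTower.toAlgHom A C S1))
  have hgint : g.toRingHom.IsIntegral := by
    refine RingHom.IsIntegral.tower_top (algebraMap K (q0.Fiber C)) g.toRingHom ?_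
    rw [AlgHom.toRingHom_eq_coe, g.comp_algebraMap]
    exact algebraMap_isIntegral_iff.mpr (Algebra.IsIntegral.of_finite K _)
  haveI hmax : (RingHom.ker g.toRingHom).IsMaximal :=
    haveI := Ideal.bot_isMaximal (K := q0.Fiber S1 ⧸ N)
    Ideal.isMaximal_comap_of_isIntegral_of_isMaximal' g.toRingHom hgint ⊥
  haveI := hN.isPrime
  let e := PrimeSpectrum.preimageOrderIsoFiber A S1 ⟨q0, inferInstance⟩
  let eC := PrimeSpectrum.preimageOrderIsoFiber A C ⟨q0, inferInstance⟩
  let P1 : PrimeSpectrum S1 := (e.symm ⟨N, inferInstance⟩).1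
  have hP1 : P1.asIdeal.comap (algebraMap A S1) = q0 :=
    congrArg PrimeSpectrum.asIdeal (e.symm ⟨N, inferInstance⟩).2
  have hP1' : P1.asIdeal = N.comap
      (Algebra.TensorProduct.includeRight (R := A) (A := K) (B := S1)).toRingHom := rfl
  refine ⟨P1.asIdeal.comap (algebraMap R S1), inferInstance, fun h => P1.2.ne_top
    (Ideal.eq_top_of_isUnit_mem _ h (IsLocalization.Away.algebraMap_isUnit u)), ?_, ?_⟩
  · rw [Ideal.comap_comap, ← IsScalarTower.algebraMap_eq, hP1]
  · intro Q hQ hle hQA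
    have hMC : (P1.asIdeal.comap (algebraMap R S1)).comap (algebraMap C R) =
        (eC.symm ⟨RingHom.ker g.toRingHom, hmax.isPrime⟩).1.asIdeal := by
      rw [Ideal.comap_comap, ← IsScalarTower.algebraMap_eq, hP1']
      ext c
      change (1 : K) ⊗ₜ[A] algebraMap C S1 c ∈ N ↔ g ((1 : K) ⊗ₜ[A] c) = 0
      simp [g, Ideal.Quotient.eq_zero_iff_mem]
    rw [hMC] at hle ⊢
    let Qs : (PrimeSpectrum.comap (algebraMap A C) ⁻¹' {⟨q0, inferInstance⟩} : Set _) :=
      ⟨⟨Q, hQ⟩, PrimeSpectrum.ext hQA⟩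
    have h1 : (⟨RingHom.ker g.toRingHom, hmax.isPrime⟩ : PrimeSpectrum (q0.Fiber C)) ≤ eC Qs := by
      rw [← eC.symm.le_iff_le, eC.symm_apply_apply]
      exact hle
    have h2 : eC Qs = ⟨RingHom.ker g.toRingHom, hmax.isPrime⟩ :=
      PrimeSpectrum.ext (hmax.eq_of_le (eC Qs).2.ne_top h1).symm
    rw [← h2, eC.symm_apply_apply]

variable {A B C : Type u} [CommRing A] [CommRing B] [CommRing C] [Algebra A B] [Algebra A C]

/-- Over the generic point of the image, torsion vanishes at field-valued points. -/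
theorem apply_eq_zero_of_ker_eq [IsDomain C] {s : C} (hs : s ≠ 0) {u : C ⊗[A] B}
    (hsu : (s ⊗ₜ[A] (1 : B)) * u = 0) {L : Type u} [Field L] [Algebra A L] (χ : C ⊗[A] B →ₐ[A] L)
    (h : RingHom.ker (algebraMap A L) ≤ RingHom.ker (algebraMap A C)) : χ u = 0 := by
  set q := RingHom.ker (algebraMap A C) with hq
  haveI : q.IsPrime := RingHom.ker_isPrime _
  let T := Algebra.algebraMapSubmonoid C q.primeCompl
  have hT : T ≤ nonZeroDivisors C := by
    rintro _ ⟨a, ha, rfl⟩
    exact mem_nonZeroDivisors_of_ne_zero fun h0 => ha (RingHom.mem_ker.mpr h0)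
  let W := Localization T
  haveI : IsDomain W := IsLocalization.isDomain_localization hT
  let jW : q.ResidueField →+* W := Ideal.ResidueField.lift q (algebraMap A W)
    (fun a ha => by
      rw [RingHom.mem_ker, IsScalarTower.algebraMap_apply A C W, RingHom.mem_ker.mp ha, map_zero])
    (fun a ha => by
      show IsUnit (algebraMap A W a)
      rw [IsScalarTower.algebraMap_apply A C W]
      exact IsLocalization.map_units W (⟨_, a, ha, rfl⟩ : T))
  letI := jW.toAlgebra
  haveI : IsScalarTower A q.ResidueField W :=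
    .of_algebraMap_eq fun a => (Ideal.ResidueField.lift_algebraMap _ _ _ _ a).symm
  let BK := q.ResidueField ⊗[A] B
  let inB : B →ₐ[A] W ⊗[q.ResidueField] BK :=
    ((Algebra.TensorProduct.includeRight (R := q.ResidueField) (A := W) (B := BK)).restrictScalars A).comp
      Algebra.TensorProduct.includeRight
  let ψ : C ⊗[A] B →ₐ[A] W ⊗[q.ResidueField] BK :=
    Algebra.TensorProduct.lift
      ((Algebra.TensorProduct.includeLeft (R := q.ResidueField) (S := A) (A := W) (B := BK)).comp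
        (IsScalarTower.toAlgHom A C W)) inB (fun _ _ => .all _ _)
  have hinj : Function.Injective ((LinearMap.mulLeft q.ResidueField (algebraMap C W s)).rTensor BK) :=
    Module.Flat.rTensor_preserves_injective_linearMap _
      (mul_right_injective₀ ((map_ne_zero_iff _ (IsLocalization.injective W hT)).mpr hs))
  have hψs : ∀ z : W ⊗[q.ResidueField] BK, ψ (s ⊗ₜ 1) * z =
      (LinearMap.mulLeft q.ResidueField (algebraMap C W s)).rTensor BK z := by
    intro z
    rw [show ψ (s ⊗ₜ 1) = algebraMap C W s ⊗ₜ (1 : BK) by simp [ψ, inB]]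
    induction z using TensorProduct.induction_on with
    | zero => simp
    | tmul x y => simp
    | add x y hx hy => rw [mul_add, hx, hy, map_add]
  have hψu : ψ u = 0 := hinj (by rw [← hψs, ← map_mul, hsu, map_zero, map_zero])
  -- factor `χ` through `ψ`
  let χC : C →ₐ[A] L := χ.comp Algebra.TensorProduct.includeLeft
  let χB : B →ₐ[A] L := χ.comp Algebra.TensorProduct.includeRight
  have hqL : ∀ a, algebraMap A C a = 0 → algebraMap A L a = 0 := fun a ha => by
    rw [← χC.commutes, ha, map_zero]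
  have hunit : ∀ a ∈ q.primeCompl, IsUnit (algebraMap A L a) := fun a ha =>
    isUnit_iff_ne_zero.mpr fun h0 => ha (h (RingHom.mem_ker.mpr h0))
  let jL : q.ResidueField →+* L := Ideal.ResidueField.lift q (algebraMap A L)
    (fun a ha => RingHom.mem_ker.mpr (hqL a ha)) hunit
  letI := jL.toAlgebra
  haveI : IsScalarTower A q.ResidueField L :=
    .of_algebraMap_eq fun a => (Ideal.ResidueField.lift_algebraMap _ _ _ _ a).symm
  let wL : W →ₐ[A] L := IsLocalization.liftAlgHom (M := T) (f := χC) (by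
    rintro ⟨_, a, ha, rfl⟩
    rw [show χC (algebraMap A C a) = algebraMap A L a from χC.commutes a]
    exact hunit a ha)
  have hwL : ∀ c, wL (algebraMap C W c) = χC c := fun c => IsLocalization.lift_eq _ c
  let wK : W →ₐ[q.ResidueField] L := { wL.toRingHom with
    commutes' := fun k => RingHom.congr_fun
      (Ideal.ResidueField.ringHom_ext (f := wL.toRingHom.comp jW) (g := jL) (RingHom.ext fun a => by
        show wL (jW (algebraMap A _ a)) = jL (algebraMap A _ a)
        rw [Ideal.ResidueField.lift_algebraMap, Ideal.ResidueField.lift_algebraMap, wL.commutes])) k }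
  let bK : BK →ₐ[q.ResidueField] L :=
    Algebra.TensorProduct.lift (Algebra.ofId _ L) χB (fun _ _ => .all _ _)
  let θ : W ⊗[q.ResidueField] BK →ₐ[q.ResidueField] L :=
    Algebra.TensorProduct.lift wK bK (fun _ _ => .all _ _)
  have hfac : χ = (θ.restrictScalars A).comp ψ := by
    refine Algebra.TensorProduct.ext (AlgHom.ext fun c => ?_) (AlgHom.ext fun b => ?_)
    · simp [θ, ψ, inB, bK, wK, hwL, χC]
    · simp [θ, ψ, inB, bK, wK, χB]
      exact ((Algebra.TensorProduct.lift_tmul _ _ _ _ _).trans (by simp)).symm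
  rw [hfac]
  simp [hψu]

/-- The case of a finitely generated domain. -/
theorem NilProp.apply_eq_zero_of_finiteType (hN : NilProp A B) [IsNoetherianRing A]
    [Algebra.FiniteType A B] [IsDomain C] [Algebra.FiniteType A C] {s : C} (hs : s ≠ 0) {u : C ⊗[A] B}
    (hsu : (s ⊗ₜ[A] (1 : B)) * u = 0) : IsNilpotent u := by
  rw [nilpotent_iff_mem_prime]
  intro P hP
  by_contra hu
  letI : Algebra C (C ⊗[A] B) := Algebra.TensorProduct.leftAlgebra
  haveI : Algebra.FiniteType A (C ⊗[A] B) := .trans (S := C) ‹_› inferInstance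
  obtain ⟨M, hM, huM, hMA, hMclosed⟩ := exists_closed_point (A := A) (C := C) P hu
  rw [← hMA] at hMclosed
  set q0 := M.comap (algebraMap A (C ⊗[A] B)) with hq0
  set Q0 := M.comap (algebraMap C (C ⊗[A] B)) with hQ0
  have hQ0A : Q0.comap (algebraMap A C) = q0 := by
    rw [hQ0, hq0, Ideal.comap_comap, ← IsScalarTower.algebraMap_eq]
  by_cases hcase : q0 ≤ RingHom.ker (algebraMap A C)
  · let χ : C ⊗[A] B →ₐ[A] M.ResidueField := IsScalarTower.toAlgHom A _ _
    refine huM (Ideal.algebraMap_residueField_eq_zero.mp (apply_eq_zero_of_ker_eq hs hsu χ ?_))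
    intro a ha
    refine hcase ?_
    rw [RingHom.mem_ker, IsScalarTower.algebraMap_apply A (C ⊗[A] B) M.ResidueField,
      Ideal.algebraMap_residueField_eq_zero] at ha
    exact ha
  obtain ⟨a, haq0, haC⟩ := SetLike.not_le_iff_exists.mp hcase
  haveI : IsNoetherianRing C := Algebra.FiniteType.isNoetherianRing A C
  -- a prime below `Q0` with one dimensional quotient
  set D := Localization.AtPrime Q0
  haveI : IsDomain D := IsLocalization.isDomain_localization Q0.primeCompl_le_nonZeroDivisors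
  have hts : algebraMap A C a * s ≠ 0 := mul_ne_zero (fun h => haC (RingHom.mem_ker.mpr h)) hs
  obtain ⟨QD, hQD, htQD, hQDmax⟩ := exists_prime_dim_one (D := D) (t := algebraMap C D (algebraMap A C a * s))
    ((map_ne_zero_iff _ (IsLocalization.injective D Q0.primeCompl_le_nonZeroDivisors)).mpr hts)
  set Qc := QD.comap (algebraMap C D) with hQc
  have hQcle : Qc ≤ Q0 := fun x hx => by
    by_contra hxn
    exact hQD.ne_top (Ideal.eq_top_of_isUnit_mem _ hx (IsLocalization.map_units D (⟨x, hxn⟩ : Q0.primeCompl)))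
  have htQc : algebraMap A C a * s ∉ Qc := htQD
  have hbetween : ∀ R : Ideal C, R.IsPrime → Qc ≤ R → R ≤ Q0 → algebraMap A C a ∈ R → R = Q0 := by
    intro R hR h1 h2 h3
    have hlt : QD < R.map (algebraMap C D) := by
      refine lt_of_le_of_ne ?_ fun heq => htQc (Ideal.mul_mem_right _ _ ?_)
      · calc QD = Qc.map (algebraMap C D) := (IsLocalization.map_comap Q0.primeCompl D QD).symm
          _ ≤ _ := Ideal.map_mono h1
      · rw [hQc, heq]
        exact Ideal.mem_map_of_mem _ h3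
    have h := congrArg (Ideal.under C) (hQDmax _ (Ideal.isPrime_map_of_isLocalizationAtPrime Q0 h2) hlt)
    rwa [Ideal.under_map_of_isLocalizationAtPrime Q0 h2, Localization.AtPrime.under_maximalIdeal] at h
  -- the curve
  set E := C ⧸ Qc
  let mk : C →ₐ[A] E := Ideal.Quotient.mkₐ A Qc
  haveI : Algebra.FiniteType A E := .of_surjective mk Ideal.Quotient.mk_surjective
  set L := M.ResidueField
  let χ : C ⊗[A] B →ₐ[A] L := IsScalarTower.toAlgHom A _ _
  have hχu : χ u ≠ 0 := fun h => huM (Ideal.algebraMap_residueField_eq_zero.mp h)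
  let χE : E →ₐ[A] L := Ideal.Quotient.liftₐ Qc (χ.comp Algebra.TensorProduct.includeLeft) fun x hx =>
    Ideal.algebraMap_residueField_eq_zero.mpr (hQcle hx)
  let θ : E ⊗[A] B →ₐ[A] L :=
    Algebra.TensorProduct.lift χE (χ.comp Algebra.TensorProduct.includeRight) (fun _ _ => .all _ _)
  let π : C ⊗[A] B →ₐ[A] E ⊗[A] B := Algebra.TensorProduct.map mk (AlgHom.id A B)
  have hθπ : θ.comp π = χ := by
    refine Algebra.TensorProduct.ext (AlgHom.ext fun c => ?_) (AlgHom.ext fun b => ?_)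
    · simp [θ, π, mk, χE, ← Algebra.TensorProduct.one_def]; rfl
    · simp [θ, π]
  let m : PrimeSpectrum E := ⟨RingHom.ker χE.toRingHom, RingHom.ker_isPrime _⟩
  haveI : m.asIdeal.IsPrime := m.2
  have hm : ∀ c, mk c ∈ m.asIdeal ↔ c ∈ Q0 := fun c => by
    show χE (mk c) = 0 ↔ _
    simp only [χE, mk, Ideal.Quotient.mkₐ_eq_mk]
    exact Ideal.algebraMap_residueField_eq_zero
  have hQA : ∀ P : PrimeSpectrum E, ∀ x, algebraMap A C x ∈ P.asIdeal.comap mk.toRingHom ↔
      x ∈ P.asIdeal.comap (algebraMap A E) := fun P x => by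
    simp only [Ideal.mem_comap, AlgHom.toRingHom_eq_coe, RingHom.coe_coe, mk.commutes]
  have hmC : m.asIdeal.comap mk.toRingHom = Q0 := by ext c; exact hm c
  have hmA : m.asIdeal.comap (algebraMap A E) = q0 := by
    ext x; rw [← hQA, hmC, ← hQ0A]; rfl
  have hm_min : ∀ P : PrimeSpectrum E, P.asIdeal ≤ m.asIdeal → P.asIdeal.comap (algebraMap A E) = q0 →
      P = m := by
    intro P hle hPA
    have h := hbetween (P.asIdeal.comap mk.toRingHom) inferInstance (fun x hx => by
        rw [Ideal.mem_comap, show mk.toRingHom x = 0 from Ideal.Quotient.eq_zero_iff_mem.mpr hx]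
        exact zero_mem _) (fun x hx => (hm x).mp (hle hx)) ((hQA P a).mpr (hPA.symm ▸ haq0))
    refine PrimeSpectrum.ext ?_
    rw [← Ideal.map_comap_of_surjective mk.toRingHom Ideal.Quotient.mk_surjective P.asIdeal, h, ← hmC,
      Ideal.map_comap_of_surjective mk.toRingHom Ideal.Quotient.mk_surjective m.asIdeal]
  have hm_max : ∀ P : PrimeSpectrum E, m.asIdeal ≤ P.asIdeal → P.asIdeal.comap (algebraMap A E) = q0 →
      P = m := by
    intro P hle hPA
    have h := hMclosed (P.asIdeal.comap mk.toRingHom) inferInstance (fun x hx => hle ((hm x).mpr hx))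
      (by ext x; rw [Ideal.mem_comap, hQA, hPA])
    refine PrimeSpectrum.ext ?_
    rw [← Ideal.map_comap_of_surjective mk.toRingHom Ideal.Quotient.mk_surjective P.asIdeal, h,
      ← hmC, Ideal.map_comap_of_surjective mk.toRingHom Ideal.Quotient.mk_surjective m.asIdeal]
  haveI : Algebra.QuasiFiniteAt A m.asIdeal := by
    refine Algebra.QuasiFiniteAt.of_isOpen_singleton_fiber m ?_
    haveI : IsNoetherianRing E := Algebra.FiniteType.isNoetherianRing A E
    classical
    let I := q0.map (algebraMap A E)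
    let S := (Ideal.finite_minimalPrimes_of_isNoetherianRing E I).toFinset.erase m.asIdeal
    obtain ⟨g, hg, hgm⟩ : ∃ g, g ∈ S.inf id ∧ g ∉ m.asIdeal := by
      refine SetLike.not_le_iff_exists.mp fun hle => ?_
      obtain ⟨J, hJ, hJm⟩ := (Ideal.IsPrime.inf_le' m.2).mp hle
      rw [Finset.mem_erase, Set.Finite.mem_toFinset] at hJ
      refine hJ.1 (congrArg PrimeSpectrum.asIdeal (hm_min ⟨J, hJ.2.1.1⟩ hJm ?_))
      refine le_antisymm ?_ (Ideal.map_le_iff_le_comap.mp hJ.2.1.2)
      rw [← hmA]; exact Ideal.comap_mono hJm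
    refine ⟨PrimeSpectrum.basicOpen g, (PrimeSpectrum.basicOpen g).isOpen, ?_⟩
    ext ⟨P, hP⟩
    have hPA : P.asIdeal.comap (algebraMap A E) = q0 := (congrArg PrimeSpectrum.asIdeal hP).trans hmA
    simp only [Set.mem_preimage, SetLike.mem_coe, PrimeSpectrum.mem_basicOpen, Set.mem_singleton_iff,
      Subtype.mk.injEq]
    constructor
    · intro hgP
      obtain ⟨J, hJ, hJP⟩ := Ideal.exists_minimalPrimes_le (I := I) (J := P.asIdeal)
        (Ideal.map_le_iff_le_comap.mpr hPA.ge)
      rcases eq_or_ne J m.asIdeal with rfl | hne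
      · exact hm_max P hJP hPA
      · exact absurd (hJP ((Finset.inf_le (f := id)
          (Finset.mem_erase.mpr ⟨hne, (Set.Finite.mem_toFinset _).mpr hJ⟩) : S.inf id ≤ J) hg)) hgP
    · rintro rfl; exact hgm
  -- Zariski's main theorem
  obtain ⟨S', hS', r, hrm, hbij⟩ :=
    Algebra.QuasiFiniteAt.exists_fg_and_exists_notMem_and_awayMap_bijective (R := A) m.asIdeal
  haveI : Module.Finite A S' := ⟨(Submodule.fg_top _).mpr hS'⟩
  have hr0 : (r : E) ≠ 0 := fun h => hrm (h ▸ zero_mem _)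
  have hpow : ∀ x : E, ∃ (k : ℕ) (y : S'), (y : E) = (r : E) ^ k * x := by
    intro x
    obtain ⟨z, hz⟩ := hbij.2 (algebraMap E _ x)
    obtain ⟨y, ⟨_, k, rfl⟩, rfl⟩ := IsLocalization.exists_mk'_eq (Submonoid.powers r) z
    refine ⟨k, y, ?_⟩
    simp only [Localization.awayMap, IsLocalization.Away.map, IsLocalization.map_mk'] at hz
    rw [IsLocalization.mk'_eq_iff_eq_mul, ← map_mul] at hz
    have := IsLocalization.injective (M := Submonoid.powers (S'.val.toRingHom r))
      (Localization.Away (S'.val.toRingHom r))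
      (powers_le_nonZeroDivisors_of_noZeroDivisors (by exact hr0)) hz
    rw [mul_comm]
    simpa using this
  let ι : S' ⊗[A] B →ₐ[A] E ⊗[A] B := Algebra.TensorProduct.map S'.val (AlgHom.id A B)
  have hlift : ∀ z : E ⊗[A] B, ∃ (k : ℕ) (y : S' ⊗[A] B), ι y = (((r : E) ^ k) ⊗ₜ 1) * z := by
    intro z
    induction z using TensorProduct.induction_on with
    | zero => exact ⟨0, 0, by simp⟩
    | tmul x b =>
      obtain ⟨k, y, hy⟩ := hpow x
      exact ⟨k, y ⊗ₜ b, by simp [ι, hy]⟩
    | add x y hx hy =>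
      obtain ⟨k, x', hx'⟩ := hx
      obtain ⟨l, y', hy'⟩ := hy
      refine ⟨k + l, ((r ^ l) ⊗ₜ 1) * x' + ((r ^ k) ⊗ₜ 1) * y', ?_⟩
      rw [map_add, map_mul, map_mul, hx', hy',
        show ι ((r ^ l) ⊗ₜ 1) = ((r : E) ^ l) ⊗ₜ 1 by simp [ι],
        show ι ((r ^ k) ⊗ₜ 1) = ((r : E) ^ k) ⊗ₜ 1 by simp [ι],
        show ((r : E) ^ (k + l)) ⊗ₜ[A] (1 : B) = (((r : E) ^ k) ⊗ₜ 1) * (((r : E) ^ l) ⊗ₜ 1) by
          rw [Algebra.TensorProduct.tmul_mul_tmul, mul_one, pow_add]]
      ring
  obtain ⟨l, u', hu'⟩ := hlift (π u)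
  obtain ⟨k, s', hs'⟩ := hpow (mk s)
  have hkill : ι ((s' ⊗ₜ 1) * u') = 0 := by
    rw [map_mul, hu', show ι (s' ⊗ₜ 1) = π (s ⊗ₜ 1) * (((r : E) ^ k) ⊗ₜ 1) by simp [ι, π, hs', mul_comm]]
    calc _ = π ((s ⊗ₜ 1) * u) * ((((r : E) ^ k) ⊗ₜ 1) * (((r : E) ^ l) ⊗ₜ 1)) := by rw [map_mul]; ring
      _ = 0 := by rw [hsu, map_zero, zero_mul]
  obtain ⟨N, hN'⟩ : ∃ N, ((r ^ N) ⊗ₜ[A] (1 : B)) * ((s' ⊗ₜ 1) * u') = 0 := by
    let f := Algebra.linearMap S' (Localization.Away r)
    haveI : IsLocalizedModule (Submonoid.powers r) (AlgebraTensorModule.rTensor A B f) := inferInstance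
    let ej : Localization.Away r →ₐ[A] Localization.Away (r : E) := Localization.awayMapₐ S'.val r
    let ee : Localization.Away r ≃ₐ[A] Localization.Away (r : E) := AlgEquiv.ofBijective ej hbij
    let G := (TensorProduct.congr ee.toLinearEquiv (LinearEquiv.refl A B))
    have hcomm : ∀ v : S' ⊗[A] B, G (AlgebraTensorModule.rTensor A B f v) =
        Algebra.TensorProduct.map (IsScalarTower.toAlgHom A E (Localization.Away (r : E))) (AlgHom.id A B)
          (ι v) := by
      intro v
      induction v using TensorProduct.induction_on with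
      | zero => simp
      | tmul x b =>
        simp [G, ee, ej, f, ι, Localization.awayMapₐ, IsLocalization.Away.mapₐ, IsLocalization.Away.map]
        exact congrArg (· ⊗ₜ[A] b) (IsLocalization.map_eq (S := Localization.Away r) (M := Submonoid.powers r) (T := Submonoid.powers (r : E)) (Q := Localization.Away (r : E)) (by rintro _ ⟨n, rfl⟩; exact ⟨n, by simp⟩) x)
      | add x y hx hy => simp only [map_add, hx, hy]
    have h0 : AlgebraTensorModule.rTensor A B f ((s' ⊗ₜ 1) * u') = 0 :=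
      G.injective (by rw [hcomm, hkill, map_zero, map_zero])
    obtain ⟨⟨_, N, rfl⟩, hN⟩ := (IsLocalizedModule.eq_zero_iff (Submonoid.powers r) _).mp h0
    refine ⟨N, ?_⟩
    rw [← hN]
    show ((r ^ N) ⊗ₜ[A] (1 : B)) * _ = (r ^ N) • _
    generalize (s' ⊗ₜ[A] (1 : B)) * u' = v
    induction v using TensorProduct.induction_on with
    | zero => simp
    | tmul x b => simp [TensorProduct.smul_tmul']
    | add x y hx hy => simp [mul_add, hx, hy, smul_add]
  haveI : IsDomain S' := inferInstance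
  have hnil : IsNilpotent u' := by
    refine hN S' (r ^ N * s') u' (mul_ne_zero (pow_ne_zero _ fun h => hr0 (congrArg Subtype.val h)) ?_) ?_
    · intro h
      refine htQc (Ideal.mul_mem_left _ _ (Ideal.Quotient.eq_zero_iff_mem.mp ?_))
      have : (r : E) ^ k * mk s = 0 := by rw [← hs', h]; rfl
      exact (mul_eq_zero.mp this).resolve_left (pow_ne_zero _ hr0)
    · rw [show (r ^ N * s') ⊗ₜ[A] (1 : B) = ((r ^ N) ⊗ₜ 1) * (s' ⊗ₜ 1) by simp, mul_assoc, hN']
  have h0 : θ (ι u') = 0 := ((hnil.map ι).map θ).eq_zero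
  rw [hu', map_mul, show θ (π u) = χ u from AlgHom.congr_fun hθπ u] at h0
  refine (mul_eq_zero.mp h0).elim (fun h => hrm ?_) hχu
  rw [show θ (((r : E) ^ l) ⊗ₜ[A] (1 : B)) = χE ((r : E) ^ l) by
    simp [θ, ← Algebra.TensorProduct.one_def], map_pow] at h
  exact eq_zero_of_pow_eq_zero h

/-- Torsion over any domain is nilpotent. -/
theorem NilProp.isNilpotent (hN : NilProp A B) [IsNoetherianRing A] [Algebra.FiniteType A B]
    [IsDomain C] {s : C} (hs : s ≠ 0) {u : C ⊗[A] B} (hsu : (s ⊗ₜ[A] (1 : B)) * u = 0) :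
    IsNilpotent u := by
  classical
  obtain ⟨C0, hC0, u0, hu0⟩ := TensorProduct.Algebra.exists_of_fg (R := A) u
  let C1 := C0 ⊔ Algebra.adjoin A {s}
  have hC1 : C1.FG := hC0.sup (Subalgebra.fg_def.mpr ⟨{s}, Set.finite_singleton s, rfl⟩)
  let s1 : C1 := ⟨s, (le_sup_right : Algebra.adjoin A {s} ≤ C1) (Algebra.self_mem_adjoin_singleton A s)⟩
  let i1 : C0 ⊗[A] B →ₐ[A] C1 ⊗[A] B :=
    Algebra.TensorProduct.map (Subalgebra.inclusion le_sup_left) (AlgHom.id A B)
  let v1 : C1 ⊗[A] B := (s1 ⊗ₜ 1) * i1 u0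
  let j1 : C1 ⊗[A] B →ₐ[A] C ⊗[A] B := Algebra.TensorProduct.map C1.val (AlgHom.id A B)
  have hcast : ∀ (S : Subalgebra A C) (v : S ⊗[A] B),
      Algebra.TensorProduct.map S.val (AlgHom.id A B) v = LinearMap.rTensor B S.val.toLinearMap v :=
    fun S v => rfl
  have hi : j1 (i1 u0) = u := by
    rw [← hu0, ← AlgHom.comp_apply, ← Algebra.TensorProduct.map_comp, AlgHom.comp_id]
    exact hcast C0 u0
  have h0 : LinearMap.rTensor B C1.val.toLinearMap v1 = LinearMap.rTensor B C1.val.toLinearMap 0 := by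
    rw [map_zero, ← hcast, show Algebra.TensorProduct.map C1.val (AlgHom.id A B) v1 =
      j1 (s1 ⊗ₜ 1) * j1 (i1 u0) from map_mul j1 _ _, hi]
    simpa [j1] using hsu
  obtain ⟨C2, h12, hC2, h2⟩ := TensorProduct.Algebra.eq_of_fg_of_subtype_eq hC1 h0
  rw [map_zero] at h2
  haveI : Algebra.FiniteType A C2 := (Subalgebra.fg_iff_finiteType C2).mp hC2
  let i2 : C1 ⊗[A] B →ₐ[A] C2 ⊗[A] B := Algebra.TensorProduct.map (Subalgebra.inclusion h12) (AlgHom.id A B)
  have h2' : i2 v1 = 0 := h2
  rw [map_mul] at h2'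
  have hn := hN.apply_eq_zero_of_finiteType (C := C2) (s := Subalgebra.inclusion h12 s1)
    (u := i2 (i1 u0)) (fun h => hs (congrArg Subtype.val h)) (by simpa [i2] using h2')
  have := hn.map (Algebra.TensorProduct.map C2.val (AlgHom.id A B))
  have e : u = (Algebra.TensorProduct.map C2.val (AlgHom.id A B)) (i2 (i1 u0)) := by
    rw [← hi, ← AlgHom.comp_apply _ i2, ← Algebra.TensorProduct.map_comp, AlgHom.comp_id]
    rfl
  rw [e]
  exact this

end Groth.Agent.UnivOpen
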