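import Mathlib

/-!
# Extending finite algebras over an open affine to finite schemes over the base

For `f : X ⟶ Y` qcqs, an ideal sheaf `J`, `n : ℕ` and a set `E` of global functions on `X`, the subrings of
`Γ(X, f ⁻¹ U)` generated by `Γ(Y, U)` and `J(U) ^ n • E` glue to a scheme over `Y`, which is finite for
suitable choices.
-/

set_option backward.isDefEq.respectTransparency false

noncomputable section

universe u

namespace Groth.Agent.UnivOpen

open CategoryTheory Limits AlgebraicGeometry TopologicalSpace Scheme.AffineZariskiSite Polynomial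

variable {X Y : Scheme.{u}} (f : X ⟶ Y) (J : Y.IdealSheafData) (n : ℕ) (E : Set Γ(X, ⊤))

/-- Restriction of a global function. -/
abbrev resGlob (U : Y.Opens) : Γ(X, ⊤) →+* Γ(X, f ⁻¹ᵁ U) :=
  (X.presheaf.map (homOfLE le_top).op).hom

/-- The generators. -/
def gens (U : Y.affineOpens) : Set Γ(X, f ⁻¹ᵁ U.1) :=
  {z | ∃ j ∈ J.ideal U ^ n, ∃ x ∈ E, z = f.app U.1 j * resGlob f U.1 x}

/-- The subring of sections. -/
def sub (U : Y.affineOpens) : Subring Γ(X, f ⁻¹ᵁ U.1) :=
  Subring.closure (Set.range (f.app U.1) ∪ gens f J n E U)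

lemma app_mem_sub (U : Y.affineOpens) (a : Γ(Y, U.1)) : f.app U.1 a ∈ sub f J n E U :=
  Subring.subset_closure (Or.inl ⟨a, rfl⟩)

/-- Restriction of sections over preimages. -/
abbrev resPre {U V : Y.Opens} (h : U ≤ V) : Γ(X, f ⁻¹ᵁ V) →+* Γ(X, f ⁻¹ᵁ U) :=
  (X.presheaf.map (homOfLE (f.preimage_mono h)).op).hom

lemma resPre_app {U V : Y.Opens} (h : U ≤ V) (a : Γ(Y, V)) :
    resPre f h (f.app V a) = f.app U (Y.presheaf.map (homOfLE h).op a) :=
  (congr($(f.naturality (homOfLE h).op) a)).symm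

lemma resPre_resGlob {U V : Y.Opens} (h : U ≤ V) (x : Γ(X, ⊤)) :
    resPre f h (resGlob f V x) = resGlob f U x := by
  simp only [resPre, resGlob, ← CommRingCat.comp_apply, ← Functor.map_comp]
  rfl

lemma resPre_mem_sub {U V : Y.affineOpens} (h : U.1 ≤ V.1) {z : Γ(X, f ⁻¹ᵁ V.1)}
    (hz : z ∈ sub f J n E V) : resPre f h z ∈ sub f J n E U := by
  induction hz using Subring.closure_induction with
  | mem z hz =>
    rcases hz with ⟨a, rfl⟩ | ⟨j, hj, x, hx, rfl⟩
    · rw [resPre_app]; exact app_mem_sub f J n E U _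
    · rw [map_mul, resPre_app, resPre_resGlob]
      refine Subring.subset_closure (Or.inr ⟨_, ?_, x, hx, rfl⟩)
      rw [← J.map_ideal (show U ≤ V from h), ← Ideal.map_pow]
      exact Ideal.mem_map_of_mem _ hj
  | zero => rw [map_zero]; exact zero_mem _
  | one => rw [map_one]; exact one_mem _
  | add x y _ _ hx hy => rw [map_add]; exact add_mem hx hy
  | neg x _ hx => rw [map_neg]; exact neg_mem hx
  | mul x y _ _ hx hy => rw [map_mul]; exact mul_mem hx hy

/-- The presheaf of rings on the affine opens. -/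
def diagram : Y.AffineZariskiSiteᵒᵖ ⥤ CommRingCat.{u} where
  obj U := .of (sub f J n E U.unop)
  map {V U} i := CommRingCat.ofHom ((resPre f (toOpens_mono i.unop.le)).restrict _ _
    fun x hx => resPre_mem_sub f J n E (toOpens_mono i.unop.le) hx)
  map_id U := by
    ext x
    exact congr($(X.presheaf.map_id _) x.1)
  map_comp i j := by
    ext x
    simp only [CommRingCat.comp_apply]
    show (X.presheaf.map _) x.1 = (X.presheaf.map _) ((X.presheaf.map _) x.1)
    rw [← CommRingCat.comp_apply, ← Functor.map_comp]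
    rfl

/-- The structure map. -/
def diagramMap : (toOpensFunctor Y).op ⋙ Y.presheaf ⟶ diagram f J n E where
  app U := CommRingCat.ofHom ((f.app U.unop.1).hom.codRestrict (sub f J n E U.unop)
    fun a => app_mem_sub f J n E U.unop a)
  naturality {V U} i := by
    ext a
    apply Subtype.ext
    exact (resPre_app f (toOpens_mono i.unop.le) a).symm

variable [QuasiCompact f] [QuasiSeparated f]

lemma isLocalization_resPre (U : Y.affineOpens) (r : Γ(Y, U.1)) :
    letI := (resPre f (Y.basicOpen_le r)).toAlgebra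
    IsLocalization.Away (f.app U.1 r) Γ(X, f ⁻¹ᵁ Y.basicOpen r) := by
  let : Algebra Γ(X, f ⁻¹ᵁ U.1) Γ(X, X.basicOpen (f.app _ r)) :=
    (X.presheaf.map (homOfLE (X.basicOpen_le _)).op).hom.toAlgebra
  dsimp +instances [resPre]
  rw! (castMode := .all) [f.preimage_basicOpen r]
  exact isLocalization_basicOpen_of_qcqs (f.isCompact_preimage U.2.isCompact)
    (f.isQuasiSeparated_preimage U.2.isQuasiSeparated) (f.app _ r)

lemma coequifibered : (diagramMap f J n E).Coequifibered := by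
  refine coequifibered_iff_forall_isLocalizationAway.mpr fun U r => ?_
  let Ur : Y.affineOpens := U.basicOpen r
  have hle : Ur.1 ≤ U.1 := Y.basicOpen_le r
  letI : Algebra Γ(X, f ⁻¹ᵁ U.1) Γ(X, f ⁻¹ᵁ Ur.1) := (resPre f hle).toAlgebra
  haveI : IsLocalization.Away (f.app U.1 r) Γ(X, f ⁻¹ᵁ Ur.1) := isLocalization_resPre f U r
  letI : Algebra Γ(Y, U.1) Γ(Y, Ur.1) := (Y.presheaf.map (homOfLE hle).op).hom.toAlgebra
  haveI : IsLocalization.Away r Γ(Y, Ur.1) := U.2.isLocalization_basicOpen r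
  set r' : sub f J n E U := ⟨f.app U.1 r, app_mem_sub f J n E U r⟩
  let ρ : sub f J n E U →+* sub f J n E Ur :=
    (resPre f hle).restrict _ _ fun x hx => resPre_mem_sub f J n E (U := Ur) hle hx
  show @IsLocalization.Away _ _ r' (sub f J n E Ur) _ ρ.toAlgebra
  letI := ρ.toAlgebra
  refine (isLocalization_iff _ _).mpr ⟨?_, ?_, ?_⟩
  · rintro ⟨_, k, rfl⟩
    show IsUnit (ρ (r' ^ k))
    rw [map_pow]
    refine IsUnit.pow k ?_
    have hu : IsUnit (algebraMap Γ(Y, U.1) Γ(Y, Ur.1) r) := IsLocalization.Away.algebraMap_isUnit r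
    have := hu.map ((f.app Ur.1).hom.codRestrict (sub f J n E Ur) fun a => app_mem_sub f J n E Ur a)
    convert this using 1
    exact Subtype.ext (resPre_app f hle r)
  · rintro ⟨z, hz⟩
    suffices ∃ (k : ℕ) (x : sub f J n E U), z * (resPre f hle (f.app U.1 r)) ^ k = resPre f hle x.1 by
      obtain ⟨k, x, hx⟩ := this
      exact ⟨⟨x, r' ^ k, k, rfl⟩, Subtype.ext (by
        show z * resPre f hle ((r' ^ k : sub f J n E U) : Γ(X, f ⁻¹ᵁ U.1)) = resPre f hle x.1
        rw [SubmonoidClass.coe_pow, map_pow]; exact hx)⟩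
    induction hz using Subring.closure_induction with
    | mem z hz =>
      rcases hz with ⟨a, rfl⟩ | ⟨j, hj, x, hx, rfl⟩
      · obtain ⟨⟨b, ⟨_, k, rfl⟩⟩, hb⟩ :=
          IsLocalization.surj (Submonoid.powers r) (S := Γ(Y, Ur.1)) a
        refine ⟨k, ⟨f.app U.1 b, app_mem_sub f J n E U b⟩, ?_⟩
        rw [← map_pow, ← map_pow, resPre_app, resPre_app]
        exact (map_mul _ _ _).symm.trans (congrArg (f.app Ur.1) hb)
      · rw [← J.map_ideal (show Ur ≤ U from hle), ← Ideal.map_pow] at hj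
        obtain ⟨⟨⟨b, hb'⟩, ⟨_, k, rfl⟩⟩, hb⟩ :=
          (IsLocalization.mem_map_algebraMap_iff (Submonoid.powers r) Γ(Y, Ur.1)).mp hj
        refine ⟨k, ⟨_, Subring.subset_closure (Or.inr ⟨b, hb', x, hx, rfl⟩)⟩, ?_⟩
        show _ = resPre f hle (f.app U.1 b * resGlob f U.1 x)
        rw [map_mul, resPre_app, resPre_resGlob, mul_right_comm, ← map_pow, ← map_pow, resPre_app]
        exact congrArg (· * _) ((map_mul _ _ _).symm.trans (congrArg (f.app Ur.1) hb))
    | zero => exact ⟨0, 0, by simp⟩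
    | one => exact ⟨0, 1, by simp⟩
    | add a b _ _ ha hb =>
      obtain ⟨k, x, hx⟩ := ha
      obtain ⟨l, y, hy⟩ := hb
      refine ⟨k + l, r' ^ l * x + r' ^ k * y, ?_⟩
      push_cast
      rw [map_add, map_mul, map_mul, map_pow, map_pow, ← hx, ← hy]
      ring
    | neg a _ ha =>
      obtain ⟨k, x, hx⟩ := ha
      exact ⟨k, -x, by push_cast; rw [map_neg, ← hx]; ring⟩
    | mul a b _ _ ha hb =>
      obtain ⟨k, x, hx⟩ := ha
      obtain ⟨l, y, hy⟩ := hb
      exact ⟨k + l, x * y, by push_cast; rw [map_mul, ← hx, ← hy]; ring⟩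
  · intro x y hxy
    have h : algebraMap Γ(X, f ⁻¹ᵁ U.1) Γ(X, f ⁻¹ᵁ Ur.1) x.1 =
        algebraMap Γ(X, f ⁻¹ᵁ U.1) Γ(X, f ⁻¹ᵁ Ur.1) y.1 := congrArg Subtype.val hxy
    obtain ⟨⟨_, k, rfl⟩, hk⟩ := IsLocalization.exists_of_eq (M := Submonoid.powers (f.app U.1 r)) h
    exact ⟨⟨r' ^ k, k, rfl⟩, Subtype.ext hk⟩

instance : ((relativeGluingData (coequifibered f J n E)).functor ⋙ Scheme.forget).IsLocallyDirected :=
  Scheme.Cover.RelativeGluingData.instIsLocallyDirectedI₀CompFunctorForgetOfIsThin ..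

/-- The glued scheme. -/
def finExt : Scheme.{u} := (relativeGluingData (coequifibered f J n E)).glued

/-- Its structure map. -/
def finExtToBase : finExt f J n E ⟶ Y := (relativeGluingData (coequifibered f J n E)).toBase

/-- Its affine charts. -/
def finExtChart (U : Y.affineOpens) : Spec (.of (sub f J n E U)) ⟶ finExt f J n E :=
  (relativeGluingData (coequifibered f J n E)).cover.f U

instance (U : Y.affineOpens) : IsOpenImmersion (finExtChart f J n E U) :=
  inferInstanceAs (IsOpenImmersion ((relativeGluingData (coequifibered f J n E)).cover.f U))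

lemma finExtChart_toBase (U : Y.affineOpens) :
    finExtChart f J n E U ≫ finExtToBase f J n E =
      Spec.map ((diagramMap f J n E).app (.op U)) ≫ U.2.fromSpec :=
  colimit.ι_desc _ _

lemma finExtToBase_preimage (U : Y.affineOpens) :
    finExtToBase f J n E ⁻¹ᵁ U.1 = (finExtChart f J n E U).opensRange := by
  simpa using! (relativeGluingData (coequifibered f J n E)).toBase_preimage_eq_opensRange_ι U

lemma isFinite_finExtToBase {ι : Type*} (V : ι → Y.affineOpens) (hV : ⨆ i, (V i).1 = ⊤)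
    (h : ∀ i, ((diagramMap f J n E).app (.op (V i))).hom.Finite) :
    IsFinite (finExtToBase f J n E) := by
  rw [IsZariskiLocalAtTarget.iff_of_iSup_eq_top (P := @IsFinite) _ hV]
  intro i
  have hi := h i
  generalize V i = U at hi ⊢
  let e := IsOpenImmersion.isoOfRangeEq (finExtToBase f J n E ⁻¹ᵁ U.1).ι (finExtChart f J n E U)
    (by simpa using congr($(finExtToBase_preimage f J n E U).1))
  rw [← MorphismProperty.cancel_left_of_respectsIso @IsFinite e.inv,
    ← MorphismProperty.cancel_right_of_respectsIso @IsFinite _ U.2.isoSpec.hom]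
  convert! (IsFinite.SpecMap_iff ((diagramMap f J n E).app (.op U))).mpr hi
  rw [← cancel_mono U.2.fromSpec]
  simp [IsAffineOpen.isoSpec_hom, e, finExtChart_toBase]

/-- Finiteness of the subalgebra of sections, from integrality of generators. -/
lemma finite_diagramMap (U : Y.affineOpens) (hJ : (J.ideal U ^ n).FG) (hE : E.Finite)
    (hint : ∀ j ∈ J.ideal U ^ n, ∀ x ∈ E, (f.app U.1).hom.IsIntegralElem (f.app U.1 j * resGlob f U.1 x)) :
    ((diagramMap f J n E).app (.op U)).hom.Finite := by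
  letI : Algebra Γ(Y, U.1) Γ(X, f ⁻¹ᵁ U.1) := (f.app U.1).hom.toAlgebra
  obtain ⟨s, hs⟩ := hJ
  let t : Set Γ(X, f ⁻¹ᵁ U.1) := (fun p => f.app U.1 p.1 * resGlob f U.1 p.2) '' ((s : Set Γ(Y, U.1)) ×ˢ E)
  have htsub : t ⊆ gens f J n E U := by
    rintro _ ⟨⟨j, x⟩, ⟨hj, hx⟩, rfl⟩
    exact ⟨j, hs ▸ Ideal.subset_span hj, x, hx, rfl⟩
  have hfin : (Algebra.adjoin Γ(Y, U.1) t).toSubmodule.FG := by
    refine fg_adjoin_of_finite ((s.finite_toSet.prod hE).image _) ?_
    rintro _ ⟨⟨j, x⟩, ⟨hj, hx⟩, rfl⟩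
    exact hint j (hs ▸ Ideal.subset_span hj) x hx
  have heq : sub f J n E U = (Algebra.adjoin Γ(Y, U.1) t).toSubring := by
    apply le_antisymm
    · refine Subring.closure_le.mpr ?_
      rintro z (⟨a, rfl⟩ | ⟨j, hj, x, hx, rfl⟩)
      · exact (Algebra.adjoin Γ(Y, U.1) t).algebraMap_mem a
      · rw [← hs] at hj
        show _ ∈ Algebra.adjoin Γ(Y, U.1) t
        clear hint
        induction hj using Submodule.span_induction with
        | mem j hj => exact Algebra.subset_adjoin ⟨⟨j, x⟩, ⟨hj, hx⟩, rfl⟩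
        | zero => rw [map_zero, zero_mul]; exact zero_mem _
        | add a b _ _ ha hb => rw [map_add, add_mul]; exact add_mem ha hb
        | smul c a _ ha =>
          rw [smul_eq_mul, map_mul, mul_assoc]
          exact mul_mem ((Algebra.adjoin Γ(Y, U.1) t).algebraMap_mem c) ha
    · intro z hz
      induction hz using Algebra.adjoin_induction with
      | mem z hz => exact Subring.subset_closure (Or.inr (htsub hz))
      | algebraMap a => exact app_mem_sub f J n E U a
      | add x y _ _ hx hy => exact add_mem hx hy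
      | mul x y _ _ hx hy => exact mul_mem hx hy
  haveI : Module.Finite Γ(Y, U.1) (Algebra.adjoin Γ(Y, U.1) t) := ⟨(Submodule.fg_top _).mpr hfin⟩
  let e : Algebra.adjoin Γ(Y, U.1) t ≃+* sub f J n E U :=
    RingEquiv.subringCongr heq.symm
  have hg : ((diagramMap f J n E).app (.op U)).hom =
      (e : _ →+* sub f J n E U).comp (algebraMap Γ(Y, U.1) (Algebra.adjoin Γ(Y, U.1) t)) := by
    ext a; rfl
  rw [hg]
  exact RingHom.Finite.comp e.finite (RingHom.finite_algebraMap.mpr ‹_›)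

omit [QuasiCompact f] [QuasiSeparated f] in
/-- Integrality spreads from a basic open up to a power. -/
lemma exists_integralElem_pow_mul (U : Y.affineOpens) (j : Γ(Y, U.1))
    (hloc : letI := (resPre f (Y.basicOpen_le j)).toAlgebra
      IsLocalization.Away (f.app U.1 j) Γ(X, f ⁻¹ᵁ Y.basicOpen j)) (x : Γ(X, f ⁻¹ᵁ U.1))
    (hx : (f.app (Y.basicOpen j)).hom.IsIntegralElem (resPre f (Y.basicOpen_le j) x)) :
    ∃ N : ℕ, (f.app U.1).hom.IsIntegralElem (f.app U.1 j ^ N * x) := by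
  letI := (resPre f (Y.basicOpen_le j)).toAlgebra
  haveI := hloc
  letI : Algebra Γ(Y, U.1) Γ(Y, Y.basicOpen j) := (Y.presheaf.map (homOfLE (Y.basicOpen_le j)).op).hom.toAlgebra
  haveI : IsLocalization.Away j Γ(Y, Y.basicOpen j) := U.2.isLocalization_basicOpen j
  letI : Algebra Γ(Y, Y.basicOpen j) Γ(X, f ⁻¹ᵁ Y.basicOpen j) := (f.app (Y.basicOpen j)).hom.toAlgebra
  letI : Algebra Γ(Y, U.1) Γ(X, f ⁻¹ᵁ Y.basicOpen j) :=
    ((f.app (Y.basicOpen j)).hom.comp (algebraMap Γ(Y, U.1) Γ(Y, Y.basicOpen j))).toAlgebra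
  haveI : IsScalarTower Γ(Y, U.1) Γ(Y, Y.basicOpen j) Γ(X, f ⁻¹ᵁ Y.basicOpen j) := .of_algebraMap_eq' rfl
  obtain ⟨⟨_, l, rfl⟩, hm⟩ := IsIntegral.exists_multiple_integral_of_isLocalization
    (Submonoid.powers j) (R := Γ(Y, U.1)) (Rₘ := Γ(Y, Y.basicOpen j)) (resPre f (Y.basicOpen_le j) x) hx
  obtain ⟨p, hp, hpe⟩ := hm
  rw [show (⟨j ^ l, l, rfl⟩ : Submonoid.powers j) • resPre f (Y.basicOpen_le j) x =
      algebraMap Γ(Y, U.1) Γ(X, f ⁻¹ᵁ Y.basicOpen j) (j ^ l) * resPre f (Y.basicOpen_le j) x from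
      Algebra.smul_def (j ^ l) _,
    show algebraMap Γ(Y, U.1) Γ(X, f ⁻¹ᵁ Y.basicOpen j) = (resPre f (Y.basicOpen_le j)).comp (f.app U.1).hom from
      RingHom.ext fun a => (resPre_app f (Y.basicOpen_le j) a).symm,
    RingHom.comp_apply, ← map_mul, ← Polynomial.hom_eval₂,
    ← map_zero (resPre f (Y.basicOpen_le j))] at hpe
  obtain ⟨⟨_, i, rfl⟩, hi⟩ := IsLocalization.exists_of_eq (M := Submonoid.powers (f.app U.1 j)) hpe
  rw [mul_zero] at hi
  rcases Nat.eq_zero_or_pos p.natDegree with hd | hd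
  · rw [hp.natDegree_eq_zero.mp hd, eval₂_one, mul_one] at hi
    refine ⟨i, Polynomial.X ^ 1, monic_X_pow 1, ?_⟩
    show eval₂ _ (f.app U.1 j ^ i * x) (Polynomial.X ^ 1) = 0
    rw [eval₂_pow, eval₂_X, pow_one, show f.app U.1 j ^ i = 0 from hi, zero_mul]
  refine ⟨i + l, p.scaleRoots (j ^ i), (monic_scaleRoots_iff _).mpr hp, ?_⟩
  rw [pow_add, mul_assoc, ← map_pow, ← map_pow, scaleRoots_eval₂_mul, map_pow]
  obtain ⟨d, hd⟩ := Nat.exists_eq_succ_of_ne_zero hd.ne'
  rw [hd, pow_succ, mul_assoc]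
  convert mul_zero _

/-- A finite set of functions, integral over an affine open `U₀`, lies in a finite scheme over the Noetherian
base: there is a finite `Y₁ → Y` with an affine chart over `U₀` given by a subring containing them. -/
theorem exists_finite_extension [IsNoetherian Y] (U₀ : Y.affineOpens) (hE : E.Finite)
    (hint : ∀ x ∈ E, (f.app U₀.1).hom.IsIntegralElem (resGlob f U₀.1 x)) :
    ∃ (S : Subring Γ(X, f ⁻¹ᵁ U₀.1)) (hS : ∀ a, f.app U₀.1 a ∈ S), (∀ x ∈ E, resGlob f U₀.1 x ∈ S) ∧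
      ((f.app U₀.1).hom.codRestrict S hS).Finite ∧
      ∃ (Y₁ : Scheme.{u}) (π : Y₁ ⟶ Y) (j : Spec (.of S) ⟶ Y₁), IsFinite π ∧ IsOpenImmersion j ∧
        j ≫ π = Spec.map (CommRingCat.ofHom ((f.app U₀.1).hom.codRestrict S hS)) ≫ U₀.2.fromSpec := by
  classical
  let Z : Closeds Y := ⟨(U₀.1 : Set Y)ᶜ, U₀.1.isOpen.isClosed_compl⟩
  let J := Scheme.IdealSheafData.vanishingIdeal Z
  have hbasic : ∀ (V : Y.affineOpens) (j : Γ(Y, V.1)), j ∈ J.ideal V → Y.basicOpen j ≤ U₀.1 := by
    intro V j hj y hy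
    by_contra hyU
    have hyV : y ∈ V.1 := Y.basicOpen_le j hy
    obtain ⟨p, rfl⟩ := V.2.range_fromSpec.ge hyV
    have h1 : j ∈ p.asIdeal := (PrimeSpectrum.mem_vanishingIdeal _ _).mp
      (by simpa [J] using hj) p hyU
    have h2 : p ∈ V.2.fromSpec ⁻¹ᵁ Y.basicOpen j := hy
    rw [V.2.fromSpec_preimage_basicOpen] at h2
    exact h2 h1
  have hU₀ : J.ideal U₀ = ⊤ := by
    refine (Ideal.eq_top_iff_one _).mpr ?_
    simp only [J, Scheme.IdealSheafData.vanishingIdeal_ideal, PrimeSpectrum.mem_vanishingIdeal]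
    exact fun p hp => absurd (U₀.2.range_fromSpec.le ⟨p, rfl⟩) hp
  -- finitely many affines
  obtain ⟨s, hs, hscov⟩ : ∃ s : Set Y.affineOpens, s.Finite ∧ ⨆ i : s, (i.1).1 = (⊤ : Y.Opens) := by
    obtain ⟨s, hs⟩ := (CompactSpace.isCompact_univ (X := Y)).elim_finite_subcover
      (fun V : Y.affineOpens => (V.1 : Set Y)) (fun V => V.1.isOpen)
      (fun y _ => by
        obtain ⟨V, hV, hy, -⟩ := exists_isAffineOpen_mem_and_subset (U := (⊤ : Y.Opens)) (x := y) trivial
        exact Set.mem_iUnion.mpr ⟨⟨V, hV⟩, hy⟩)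
    refine ⟨s, s.finite_toSet, top_le_iff.mp fun y _ => ?_⟩
    obtain ⟨V, hV, hy⟩ := Set.mem_iUnion₂.mp (hs (Set.mem_univ y))
    exact Opens.mem_iSup.mpr ⟨⟨V, hV⟩, hy⟩
  haveI : Finite s := hs.to_subtype
  haveI : Fintype s := Fintype.ofFinite s
  haveI : ∀ V : Y.affineOpens, IsNoetherianRing Γ(Y, V.1) := fun V => IsLocallyNoetherian.component_noetherian V
  -- per affine: an ideal with the radical of `J`, scaling `E` to integral elements
  have hpow : ∀ V : Y.affineOpens, ∀ j ∈ J.ideal V, ∃ N : ℕ, ∀ x ∈ E,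
      (f.app V.1).hom.IsIntegralElem (f.app V.1 j ^ N * resGlob f V.1 x) := by
    intro V j hj
    have hone : ∀ x ∈ E, ∃ N : ℕ, (f.app V.1).hom.IsIntegralElem (f.app V.1 j ^ N * resGlob f V.1 x) := by
      intro x hx
      refine exists_integralElem_pow_mul f V j (isLocalization_resPre f V j) _ ?_
      rw [resPre_resGlob, ← resPre_resGlob f (hbasic V j hj)]
      obtain ⟨p, hp, hpe⟩ := hint x hx
      refine ⟨p.map (Y.presheaf.map (homOfLE (hbasic V j hj)).op).hom, hp.map _, ?_⟩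
      rw [eval₂_map, show (f.app (Y.basicOpen j)).hom.comp (Y.presheaf.map (homOfLE (hbasic V j hj)).op).hom =
          (resPre f (hbasic V j hj)).comp (f.app U₀.1).hom from
          RingHom.ext fun a => (resPre_app f (hbasic V j hj) a).symm,
        ← Polynomial.hom_eval₂, hpe, map_zero]
    choose! N hN using hone
    refine ⟨hE.toFinset.sup N, fun x hx => ?_⟩
    obtain ⟨d, hd⟩ := Nat.exists_eq_add_of_le (Finset.le_sup (f := N) (hE.mem_toFinset.mpr hx))
    rw [hd, add_comm, pow_add, mul_assoc, ← map_pow (f.app V.1).hom j d]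
    exact RingHom.IsIntegralElem.mul _ ((f.app V.1).hom.isIntegralElem_map) (hN x hx)
  have hn : ∀ V : Y.affineOpens, ∃ n : ℕ, ∀ j ∈ J.ideal V ^ n, ∀ x ∈ E,
      (f.app V.1).hom.IsIntegralElem (f.app V.1 j * resGlob f V.1 x) := by
    intro V
    letI : Algebra Γ(Y, V.1) Γ(X, f ⁻¹ᵁ V.1) := (f.app V.1).hom.toAlgebra
    let I : Ideal Γ(Y, V.1) := ⨅ x ∈ E,
      Submodule.comap (LinearMap.toSpanSingleton Γ(Y, V.1) Γ(X, f ⁻¹ᵁ V.1) (resGlob f V.1 x))
        (integralClosure Γ(Y, V.1) Γ(X, f ⁻¹ᵁ V.1)).toSubmodule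
    have hI : J.ideal V ≤ I.radical := fun j hj => by
      obtain ⟨N, hN⟩ := hpow V j hj
      refine ⟨N, ?_⟩
      simp only [I, Submodule.mem_iInf, Submodule.mem_comap, LinearMap.toSpanSingleton_apply,
        Algebra.smul_def, map_pow, Subalgebra.mem_toSubmodule]
      exact hN
    obtain ⟨n, hn⟩ := Ideal.exists_pow_le_of_le_radical_of_fg hI (IsNoetherian.noetherian _)
    refine ⟨n, fun j hj x hx => ?_⟩
    have h := hn hj
    simp only [I, Submodule.mem_iInf, Submodule.mem_comap, LinearMap.toSpanSingleton_apply,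
      Algebra.smul_def, Subalgebra.mem_toSubmodule] at h
    exact h x hx
  choose m hm using hn
  let n := Finset.univ.sup fun V : s => m V.1
  have hle : ∀ V : s, J.ideal V.1 ^ n ≤ J.ideal V.1 ^ m V.1 := fun V =>
    Ideal.pow_le_pow_right (Finset.le_sup (f := fun V : s => m V.1) (Finset.mem_univ V))
  refine ⟨sub f J n E U₀, app_mem_sub f J n E U₀, fun x hx => ?_, ?_, finExt f J n E, finExtToBase f J n E,
    finExtChart f J n E U₀, isFinite_finExtToBase f J n E (fun V : s => V.1) hscov fun V =>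
      finite_diagramMap f J n E V.1 (IsNoetherian.noetherian _) hE fun j hj => hm V.1 j (hle V hj),
    inferInstance, finExtChart_toBase f J n E U₀⟩
  · refine Subring.subset_closure (Or.inr ⟨1, ?_, x, hx, by rw [map_one, one_mul]⟩)
    rw [hU₀, ← Ideal.one_eq_top, one_pow, Ideal.one_eq_top]; trivial
  · refine finite_diagramMap f J n E U₀ (IsNoetherian.noetherian _) hE fun j _ x hx => ?_
    exact RingHom.IsIntegralElem.mul _ ((f.app U₀.1).hom.isIntegralElem_map) (hint x hx)

end Groth.Agent.UnivOpen
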