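import Mathlib
import Groth.Agent.UnivOpen.Core
import Groth.Agent.UnivOpen.FiniteExt

/-!
# Universal openness from openness after finite base changes
-/

set_option backward.isDefEq.respectTransparency false

universe u

namespace Groth.Agent.UnivOpen

open CategoryTheory Limits AlgebraicGeometry TopologicalSpace TensorProduct

/-- Going down after any base change. -/
theorem exists_le_comap_eq {A B C : Type u} [CommRing A] [CommRing B] [CommRing C] [Algebra A B]
    [Algebra A C] [IsNoetherianRing A] [Algebra.FiniteType A B] (hN : NilProp A B)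
    (P : Ideal (C ⊗[A] B)) [P.IsPrime] (Q : Ideal C) [Q.IsPrime]
    (hQ : Q ≤ P.comap (Algebra.TensorProduct.includeLeftRingHom (R := A) (A := C) (B := B))) :
    ∃ P' : Ideal (C ⊗[A] B), P'.IsPrime ∧ P' ≤ P ∧
      P'.comap (Algebra.TensorProduct.includeLeftRingHom (R := A) (A := C) (B := B)) = Q := by
  set inl := Algebra.TensorProduct.includeLeftRingHom (R := A) (A := C) (B := B)
  let Qe := Q.map inl
  let T : Submonoid (C ⊗[A] B) := Q.primeCompl.map inl ⊔ P.primeCompl
  by_cases hd : Disjoint (Qe : Set (C ⊗[A] B)) T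
  · obtain ⟨P', hP', hle, hdis⟩ := Ideal.exists_le_prime_disjoint Qe T hd
    refine ⟨P', hP', fun x hx => by_contra fun hxP =>
      Set.disjoint_left.mp hdis hx ((le_sup_right : P.primeCompl ≤ T) hxP), le_antisymm (fun c hc => ?_) ?_⟩
    · by_contra hcQ
      exact Set.disjoint_left.mp hdis hc ((le_sup_left : Q.primeCompl.map inl ≤ T) ⟨c, hcQ, rfl⟩)
    · exact Ideal.map_le_iff_le_comap.mp hle
  exfalso
  obtain ⟨x, hxQ, hxT⟩ := Set.not_disjoint_iff.mp hd
  obtain ⟨_, ⟨c, hc, rfl⟩, v, hv, rfl⟩ := Submonoid.mem_sup.mp hxT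
  let π : C ⊗[A] B →ₐ[A] (C ⧸ Q) ⊗[A] B :=
    Algebra.TensorProduct.map (Ideal.Quotient.mkₐ A Q) (AlgHom.id A B)
  have hker : RingHom.ker π = Qe := by
    have := Algebra.TensorProduct.rTensor_ker (R := A) (C := B) (Ideal.Quotient.mkₐ A Q)
      Ideal.Quotient.mk_surjective
    rw [show RingHom.ker (Ideal.Quotient.mkₐ A Q) = Q from Ideal.mk_ker] at this
    exact this
  have h0 : π (inl c * v) = 0 := (hker.ge hxQ : _)
  rw [map_mul] at h0
  have hnil := hN.isNilpotent (C := C ⧸ Q) (s := Ideal.Quotient.mk Q c)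
    (fun h => hc (Ideal.Quotient.eq_zero_iff_mem.mp h)) (u := π v)
    (by rw [← h0]; simp [π, inl])
  obtain ⟨k, hk⟩ := hnil
  rw [← map_pow] at hk
  exact hv (‹P.IsPrime›.mem_of_pow_mem k ((Ideal.map_le_iff_le_comap.mpr hQ) (hker.le hk)))

/-- Two field extensions of a field embed in a common one. -/
theorem exists_field_amalgam {k K₁ K₂ : Type u} [Field k] [Field K₁] [Field K₂] (a : k →+* K₁) (b : k →+* K₂) :
    ∃ (L : Type u) (_ : Field L) (σ : K₁ →+* L) (τ : K₂ →+* L), ∀ x, σ (a x) = τ (b x) := by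
  letI := a.toAlgebra
  letI := b.toAlgebra
  haveI : Nontrivial (K₁ ⊗[k] K₂) :=
    (Algebra.TensorProduct.includeLeft_injective (R := k) (S := k) (A := K₁) (B := K₂) b.injective).nontrivial
  obtain ⟨N, hN⟩ := Ideal.exists_maximal (K₁ ⊗[k] K₂)
  refine ⟨(K₁ ⊗[k] K₂) ⧸ N, Ideal.Quotient.field N, (Ideal.Quotient.mk N).comp Algebra.TensorProduct.includeLeftRingHom,
    (Ideal.Quotient.mk N).comp (Algebra.TensorProduct.includeRight (R := k) (A := K₁)).toRingHom, fun x => ?_⟩
  exact congrArg (Ideal.Quotient.mk N) (RingHom.congr_fun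
    (Algebra.TensorProduct.includeLeftRingHom_comp_algebraMap (R := k) (A := K₁) (B := K₂)) x)

/-- Nilpotency descends along integral injective extensions of the left factor. -/
theorem isNilpotent_of_map {A B D S : Type u} [CommRing A] [CommRing B] [CommRing D] [CommRing S]
    [Algebra A B] [Algebra A D] [Algebra A S] [Algebra D S] [IsScalarTower A D S] [Algebra.IsIntegral D S]
    (hinj : Function.Injective (algebraMap D S)) {u : D ⊗[A] B}
    (h : IsNilpotent (Algebra.TensorProduct.map (IsScalarTower.toAlgHom A D S) (AlgHom.id A B) u)) :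
    IsNilpotent u := by
  rw [nilpotent_iff_mem_prime]
  intro P hP
  by_contra hu
  let η : D ⊗[A] B →ₐ[A] P.ResidueField := IsScalarTower.toAlgHom A _ _
  let ηD : D →ₐ[A] P.ResidueField := η.comp Algebra.TensorProduct.includeLeft
  let ηB : B →ₐ[A] P.ResidueField := η.comp Algebra.TensorProduct.includeRight
  set q := RingHom.ker ηD.toRingHom
  haveI : q.IsPrime := RingHom.ker_isPrime _
  obtain ⟨q', -, hq', hq'q⟩ := Ideal.exists_ideal_over_prime_of_isIntegral q (⊥ : Ideal S)
    (by rw [← RingHom.ker_eq_comap_bot, (RingHom.injective_iff_ker_eq_bot _).mp hinj]; exact bot_le)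
  let a : q.ResidueField →+* q'.ResidueField := Ideal.ResidueField.map q q' (algebraMap D S) hq'q.symm
  let b : q.ResidueField →+* P.ResidueField := Ideal.ResidueField.lift q ηD.toRingHom le_rfl
    (fun d hd => isUnit_iff_ne_zero.mpr fun h0 => hd (RingHom.mem_ker.mpr h0))
  obtain ⟨K, _, σq, σP, hσ⟩ := exists_field_amalgam a b
  let σS : S →+* K := σq.comp (algebraMap S q'.ResidueField)
  have hagree : ∀ d : D, σS (algebraMap D S d) = σP (ηD d) := by
    intro d
    show σq (algebraMap S q'.ResidueField (algebraMap D S d)) = σP (ηD d)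
    exact (congrArg σq (Ideal.ResidueField.map_algebraMap (I := q) (J := q') (f := algebraMap D S) hq'q.symm d).symm).trans
      ((hσ _).trans (congrArg σP (Ideal.ResidueField.lift_algebraMap q ηD.toRingHom _ _ d)))
  letI : Algebra A K := (σS.comp (algebraMap A S)).toAlgebra
  let σS' : S →ₐ[A] K := { σS with commutes' := fun _ => rfl }
  let σP' : P.ResidueField →ₐ[A] K :=
    { σP with
      commutes' := fun r => by
        show σP (algebraMap A P.ResidueField r) = σS (algebraMap A S r)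
        rw [IsScalarTower.algebraMap_apply A D S, hagree, ηD.commutes] }
  let χ : S ⊗[A] B →ₐ[A] K :=
    Algebra.TensorProduct.lift σS' (σP'.comp ηB) (fun _ _ => .all _ _)
  have hfac : χ.comp (Algebra.TensorProduct.map (IsScalarTower.toAlgHom A D S) (AlgHom.id A B)) =
      σP'.comp η := by
    refine Algebra.TensorProduct.ext (AlgHom.ext fun d => ?_) (AlgHom.ext fun x => ?_)
    · simpa [χ, σS', σP', ηD, ← Algebra.TensorProduct.one_def] using hagree d
    · simp [χ, σP', ηB]
  have h0 : σP (η u) = 0 := by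
    have := (h.map χ).eq_zero
    rw [← AlgHom.comp_apply, hfac] at this
    exact this
  exact hu (Ideal.algebraMap_residueField_eq_zero.mp ((map_eq_zero σP).mp h0))

variable {X Y : Scheme.{u}} (f : X ⟶ Y)

/-- Openness after finite base changes gives `NilProp` on affine pieces. -/
theorem nilProp_of_isOpenMap [IsNoetherian Y]
    (hyp : ∀ (Y₁ : Scheme.{u}) (g : Y₁ ⟶ Y) [IsFinite g], IsOpenMap (pullback.snd f g).base)
    {U : Y.Opens} (hU : IsAffineOpen U) {V : X.Opens} (hV : IsAffineOpen V) (hVU : V ≤ f ⁻¹ᵁ U) :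
    letI := (f.appLE U V hVU).hom.toAlgebra
    NilProp Γ(Y, U) Γ(X, V) := by
  letI := (f.appLE U V hVU).hom.toAlgebra
  intro D _ _ _ _ s u hs hsu
  classical
  let L := FractionRing D
  let Xl := Spec (CommRingCat.of L)
  let g : Xl ⟶ Y := Spec.map (CommRingCat.ofHom (algebraMap Γ(Y, U) L)) ≫ hU.fromSpec
  haveI : CompactSpace Xl := inferInstance
  haveI : QuasiSeparated g := inferInstance
  haveI : QuasiCompact g := inferInstance
  let ρ : L →+* Γ(Xl, g ⁻¹ᵁ U) := (resGlob g U).comp (Scheme.ΓSpecIso (CommRingCat.of L)).inv.hom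
  have htop : g ⁻¹ᵁ U = ⊤ := by
    refine top_le_iff.mp fun x _ => ?_
    show hU.fromSpec _ ∈ U
    exact hU.range_fromSpec.le ⟨_, rfl⟩
  haveI hρiso : IsIso (Xl.presheaf.map (homOfLE (le_top : g ⁻¹ᵁ U ≤ ⊤)).op) := by
    haveI : IsIso (homOfLE (le_top : g ⁻¹ᵁ U ≤ ⊤)) := ⟨homOfLE htop.ge, Subsingleton.elim _ _, Subsingleton.elim _ _⟩
    infer_instance
  have hρ : Function.Bijective ρ :=
    (ConcreteCategory.bijective_of_isIso (Xl.presheaf.map (homOfLE (le_top : g ⁻¹ᵁ U ≤ ⊤)).op)).comp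
      (ConcreteCategory.bijective_of_isIso (Scheme.ΓSpecIso (CommRingCat.of L)).inv)
  have happ : ∀ a : Γ(Y, U), g.app U a = ρ (algebraMap Γ(Y, U) L a) := by
    intro a
    have h : g.app U = CommRingCat.ofHom (algebraMap Γ(Y, U) L) ≫ (Scheme.ΓSpecIso (CommRingCat.of L)).inv ≫
        Xl.presheaf.map (homOfLE (le_top : g ⁻¹ᵁ U ≤ ⊤)).op := by
      simp only [g, Scheme.Hom.comp_app, hU.fromSpec_app_self, Category.assoc]
      rw [Scheme.Hom.naturality, ← Scheme.Hom.appTop, ← Category.assoc (Scheme.ΓSpecIso Γ(Y, U)).inv,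
        ← Scheme.ΓSpecIso_inv_naturality, Category.assoc]
      rfl
    exact congr($h a)
  haveI : Algebra.IsIntegral Γ(Y, U) D := Algebra.IsIntegral.of_finite _ _
  obtain ⟨G, hG⟩ := Module.finite_def.mp (inferInstance : Module.Finite Γ(Y, U) D)
  let E : Set Γ(Xl, ⊤) := (fun d => (Scheme.ΓSpecIso (CommRingCat.of L)).inv (algebraMap D L d)) '' (G : Set D)
  have hρA : ρ.comp (algebraMap Γ(Y, U) L) = (g.app U).hom := RingHom.ext fun a => (happ a).symm
  obtain ⟨S, hS, hES, hSfin, Y₁, π, j, hπ, hj, hjπ⟩ := exists_finite_extension g E ⟨U, hU⟩ (G.finite_toSet.image _) (by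
    rintro _ ⟨d, -, rfl⟩
    obtain ⟨p, hp, hpd⟩ := (Algebra.IsIntegral.isIntegral (R := Γ(Y, U)) d).map (IsScalarTower.toAlgHom Γ(Y, U) D L)
    refine ⟨p, hp, ?_⟩
    show Polynomial.eval₂ (g.app U).hom (ρ (algebraMap D L d)) p = 0
    rw [← hρA, ← Polynomial.hom_eval₂]
    exact (congrArg ρ hpd).trans (map_zero ρ))
  let φ₀ : D →+* Γ(Xl, g ⁻¹ᵁ U) := ρ.comp (algebraMap D L)
  have hφmem : ∀ d, φ₀ d ∈ S := by
    intro d
    have hd : d ∈ Submodule.span Γ(Y, U) (G : Set D) := hG ▸ Submodule.mem_top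
    induction hd using Submodule.span_induction with
    | mem x hx => exact hES _ ⟨x, hx, rfl⟩
    | zero => rw [map_zero]; exact S.zero_mem
    | add x y _ _ hx hy => rw [map_add]; exact S.add_mem hx hy
    | smul a x _ hx =>
      rw [Algebra.smul_def, map_mul]
      refine S.mul_mem ?_ hx
      show ρ (algebraMap D L (algebraMap Γ(Y, U) D a)) ∈ S
      rw [← IsScalarTower.algebraMap_apply, ← happ]
      exact hS a
  let φ : D →+* S := φ₀.codRestrict S hφmem
  let αS : Γ(Y, U) →+* S := (g.app U).hom.codRestrict S hS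
  letI : Algebra Γ(Y, U) S := αS.toAlgebra
  letI : Algebra D S := φ.toAlgebra
  haveI : IsScalarTower Γ(Y, U) D S := .of_algebraMap_eq fun a => Subtype.ext (by
    show g.app U a = ρ (algebraMap D L (algebraMap Γ(Y, U) D a))
    rw [← IsScalarTower.algebraMap_apply, ← happ])
  haveI : IsDomain Γ(Xl, g ⁻¹ᵁ U) := (RingEquiv.ofBijective ρ hρ).toMulEquiv.isDomain_iff.mp inferInstance
  haveI : IsDomain S := inferInstance
  have hφinj : Function.Injective φ := fun x y h =>
    IsFractionRing.injective D L (hρ.1 (congrArg Subtype.val h))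
  haveI : Module.Finite Γ(Y, U) S := hSfin
  haveI : Algebra.IsIntegral D S := Algebra.IsIntegral.tower_top (R := Γ(Y, U))
  refine isNilpotent_of_map (S := S) hφinj ?_
  set u' := Algebra.TensorProduct.map (IsScalarTower.toAlgHom Γ(Y, U) D S) (AlgHom.id Γ(Y, U) Γ(X, V)) u
  have hs' : φ s ≠ 0 := (map_ne_zero_iff _ hφinj).mpr hs
  have hsu' : (φ s ⊗ₜ[Γ(Y, U)] (1 : Γ(X, V))) * u' = 0 := by
    have := congrArg (Algebra.TensorProduct.map (IsScalarTower.toAlgHom Γ(Y, U) D S) (AlgHom.id Γ(Y, U) Γ(X, V))) hsu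
    rw [map_mul, map_zero] at this
    simp only [Algebra.TensorProduct.map_tmul, AlgHom.coe_id, id_eq, map_one] at this
    exact this
  -- openness over `Spec S`
  have hopen : IsOpenMap (Spec.map (CommRingCat.ofHom (algebraMap S (S ⊗[Γ(Y, U)] Γ(X, V))))).base := by
    let k := j ≫ π
    have h1 : IsOpenMap (pullback.fst π f).base := by
      have h := hyp Y₁ π
      have e : pullback.fst π f = (pullbackSymmetry π f).hom ≫ pullback.snd f π := by simp
      rw [e, Scheme.Hom.comp_base, TopCat.coe_comp]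
      exact h.comp (pullbackSymmetry π f).hom.homeomorph.isOpenMap
    have h2 : IsOpenMap (pullback.fst k f).base := by
      have hpb : IsPullback (pullback.map k f π f j (𝟙 X) (𝟙 Y) (by simp [k]) (by simp))
          (pullback.fst k f) (pullback.fst π f) j := by
        refine IsPullback.of_right ?_ (by simp) (IsPullback.of_hasPullback π f).flip
        have e : pullback.map k f π f j (𝟙 X) (𝟙 Y) (by simp [k]) (by simp) ≫ pullback.snd π f =
            pullback.snd k f := by simp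
        rw [e]
        exact (IsPullback.of_hasPullback k f).flip
      exact IsZariskiLocalAtTarget.of_isPullback (P := topologically @IsOpenMap) (iY := j) hpb h1
    let l := Spec.map (CommRingCat.ofHom (algebraMap Γ(Y, U) S))
    let m := Spec.map (CommRingCat.ofHom (algebraMap Γ(Y, U) Γ(X, V)))
    have e₁ : l ≫ hU.fromSpec = 𝟙 _ ≫ k := by rw [Category.id_comp]; exact hjπ.symm
    have e₂ : m ≫ hU.fromSpec = hV.fromSpec ≫ f := IsAffineOpen.SpecMap_appLE_fromSpec f hU hV hVU
    let ι := pullback.map l m k f (𝟙 _) hV.fromSpec hU.fromSpec e₁ e₂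
    have e3 : Spec.map (CommRingCat.ofHom (algebraMap S (S ⊗[Γ(Y, U)] Γ(X, V)))) =
        (pullbackSpecIso Γ(Y, U) S Γ(X, V)).inv ≫ ι ≫ pullback.fst k f := by
      rw [pullback.lift_fst, Category.comp_id]
      exact (pullbackSpecIso_inv_fst Γ(Y, U) S Γ(X, V)).symm
    rw [e3]
    exact (h2.comp ι.isOpenEmbedding.isOpenMap).comp (pullbackSpecIso Γ(Y, U) S Γ(X, V)).inv.homeomorph.isOpenMap
  rw [nilpotent_iff_mem_prime]
  intro P hP
  by_contra hu'
  let p : PrimeSpectrum (S ⊗[Γ(Y, U)] Γ(X, V)) := ⟨P, hP⟩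
  have himg := hopen ((PrimeSpectrum.basicOpen u').1 : Set (PrimeSpectrum (S ⊗[Γ(Y, U)] Γ(X, V)))) (PrimeSpectrum.basicOpen u').isOpen
  let η : PrimeSpectrum S := ⟨⊥, Ideal.isPrime_bot⟩
  obtain ⟨P1, hP1, hP1η⟩ : η ∈ (Spec.map (CommRingCat.ofHom (algebraMap S (S ⊗[Γ(Y, U)] Γ(X, V))))).base ''
      ((PrimeSpectrum.basicOpen u').1 : Set (PrimeSpectrum (S ⊗[Γ(Y, U)] Γ(X, V)))) := by
    have hsp : η ⤳ (Spec.map (CommRingCat.ofHom (algebraMap S (S ⊗[Γ(Y, U)] Γ(X, V))))).base p :=
      (PrimeSpectrum.le_iff_specializes η _).mp bot_le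
    exact hsp.mem_open himg ⟨p, hu', rfl⟩
  refine hs' (Ideal.mem_bot.mp (?_ : φ s ∈ η.asIdeal))
  rw [← hP1η]
  exact (P1.2.mem_or_mem (show (φ s ⊗ₜ[Γ(Y, U)] (1 : Γ(X, V))) * u' ∈ P1.asIdeal from hsu' ▸ zero_mem _)).resolve_right hP1

/-- Universal openness from openness after finite base changes. -/
theorem universallyOpen_of_isOpenMap_baseChange_finite [IsNoetherian Y] [LocallyOfFiniteType f]
    (hyp : ∀ (Y₁ : Scheme.{u}) (g : Y₁ ⟶ Y) [IsFinite g], IsOpenMap (pullback.snd f g).base) :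
    UniversallyOpen f := by
  refine ⟨MorphismProperty.universally_mk' _ _ fun {Z} g _ => ?_⟩
  refine isOpenMap_of_generalizingMap _ fun w z₁ hz => ?_
  let y := g (pullback.fst g f w)
  obtain ⟨U, hU, hyU, -⟩ := exists_isAffineOpen_mem_and_subset (U := (⊤ : Y.Opens)) (x := y) trivial
  obtain ⟨V, hV, hxV, hVU⟩ := exists_isAffineOpen_mem_and_subset (U := f ⁻¹ᵁ U) (x := pullback.snd g f w) (by
    show f _ ∈ U
    rw [← Scheme.Hom.comp_apply, ← pullback.condition, Scheme.Hom.comp_apply]; exact hyU)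
  obtain ⟨W, hW, hzW, hWU⟩ := exists_isAffineOpen_mem_and_subset (U := g ⁻¹ᵁ U) (x := pullback.fst g f w) hyU
  letI := (f.appLE U V hVU).hom.toAlgebra
  letI := (g.appLE U W hWU).hom.toAlgebra
  haveI : IsNoetherianRing Γ(Y, U) := IsLocallyNoetherian.component_noetherian ⟨U, hU⟩
  haveI : Algebra.FiniteType Γ(Y, U) Γ(X, V) := f.finiteType_appLE hU hV hVU
  let l := Spec.map (CommRingCat.ofHom (algebraMap Γ(Y, U) Γ(Z, W)))
  let m := Spec.map (CommRingCat.ofHom (algebraMap Γ(Y, U) Γ(X, V)))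
  have e₁ : l ≫ hU.fromSpec = hW.fromSpec ≫ g := IsAffineOpen.SpecMap_appLE_fromSpec g hU hW hWU
  have e₂ : m ≫ hU.fromSpec = hV.fromSpec ≫ f := IsAffineOpen.SpecMap_appLE_fromSpec f hU hV hVU
  let ι := pullback.map l m g f hW.fromSpec hV.fromSpec hU.fromSpec e₁ e₂
  obtain ⟨w₀, rfl⟩ : w ∈ Set.range ι := by
    rw [Scheme.Pullback.range_map]
    exact ⟨hW.range_fromSpec.ge hzW, hV.range_fromSpec.ge hxV⟩
  obtain ⟨P, rfl⟩ := (pullbackSpecIso Γ(Y, U) Γ(Z, W) Γ(X, V)).inv.surjective w₀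
  let e := (pullbackSpecIso Γ(Y, U) Γ(Z, W) Γ(X, V)).inv
  let inl := Algebra.TensorProduct.includeLeftRingHom (R := Γ(Y, U)) (A := Γ(Z, W)) (B := Γ(X, V))
  have hfst : ∀ P', pullback.fst g f (ι (e P')) = hW.fromSpec (PrimeSpectrum.comap inl P') := by
    intro P'
    have h : e ≫ ι ≫ pullback.fst g f = Spec.map (CommRingCat.ofHom inl) ≫ hW.fromSpec := by
      rw [pullback.lift_fst, ← Category.assoc, pullbackSpecIso_inv_fst]
    exact congr($h P')
  obtain ⟨Q, rfl⟩ := hW.range_fromSpec.ge (hz.mem_open W.isOpen hzW)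
  have hle : Q.asIdeal ≤ P.asIdeal.comap inl := by
    refine (PrimeSpectrum.le_iff_specializes (Q : PrimeSpectrum Γ(Z, W)) (PrimeSpectrum.comap inl P)).mpr ?_
    rw [← hW.fromSpec.isOpenEmbedding.isInducing.specializes_iff, ← hfst]
    exact hz
  obtain ⟨P', hP', hP'le, hP'c⟩ := exists_le_comap_eq (nilProp_of_isOpenMap f hyp hU hV hVU) P.asIdeal Q.asIdeal hle
  refine ⟨ι (e ⟨P', hP'⟩), ?_, (hfst _).trans (congrArg _ (PrimeSpectrum.ext hP'c))⟩
  exact (((PrimeSpectrum.le_iff_specializes (⟨P', hP'⟩ : PrimeSpectrum _) P).mp hP'le).map e.continuous).map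
    ι.continuous

end Groth.Agent.UnivOpen
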